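import Mathlib
import Groth.Agent.CycP1Lib.Graph
import Groth.Agent.SweepSix.GeomConn
import Groth.Agent.BranchLib.One
import Groth.Agent.S7803

/-! Properness from proper, connected geometric fibres over a normal base. -/

set_option autoImplicit false
set_option linter.style.haveILetI false
set_option backward.isDefEq.respectTransparency false
set_option backward.isDefEq.respectTransparency.types false
universe u

open CategoryTheory CategoryTheory.Limits AlgebraicGeometry

noncomputable section

namespace PropFibLib

variable {X Y Z : Scheme.{u}} (j : X ⟶ Z) (p : Z ⟶ Y) [IsOpenImmersion j] [IsProper p]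
  {T : Scheme.{u}} (y : T ⟶ Y)

/-- If the base change of `j ≫ p` is proper, the open `j(X)` becomes clopen after the base change. -/
theorem isClopen_preimage [IsProper (pullback.snd (j ≫ p) y)] :
    IsClopen ((pullback.fst p y).base ⁻¹' Set.range j.base) := by
  refine ⟨?_, j.isOpenEmbedding.isOpen_range.preimage (pullback.fst p y).continuous⟩
  let m : pullback (j ≫ p) y ⟶ pullback p y :=
    pullback.lift (pullback.fst (j ≫ p) y ≫ j) (pullback.snd (j ≫ p) y)
      (by rw [Category.assoc, pullback.condition])
  have hms : m ≫ pullback.snd p y = pullback.snd (j ≫ p) y := pullback.lift_snd _ _ _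
  have hsq : IsPullback (pullback.fst (j ≫ p) y) m j (pullback.fst p y) := by
    refine IsPullback.of_bot ?_ (pullback.lift_fst _ _ _).symm (IsPullback.of_hasPullback p y)
    rw [hms]
    exact IsPullback.of_hasPullback (j ≫ p) y
  haveI : IsProper (m ≫ pullback.snd p y) := by rw [hms]; infer_instance
  haveI : IsProper m := IsProper.of_comp m (pullback.snd p y)
  have hr : (pullback.fst p y).base ⁻¹' Set.range j.base = Set.range m.base := by
    ext z
    constructor
    · rintro ⟨x, hx⟩
      obtain ⟨w, -, hw⟩ := Scheme.exists_preimage_of_isPullback hsq x z hx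
      exact ⟨w, hw⟩
    · rintro ⟨w, rfl⟩
      refine ⟨(pullback.fst (j ≫ p) y).base w, ?_⟩
      rw [← Scheme.Hom.comp_apply, ← Scheme.Hom.comp_apply, hsq.w]
  rw [hr]
  exact m.isClosedMap.isClosed_range

/-- A morphism from the spectrum of a field to the generic point of an integral scheme is flat. -/
theorem flat_of_generic [IsIntegral Y] {K : Type u} [Field K] (y : Spec (CommRingCat.of K) ⟶ Y)
    (h : ∀ t, y.base t = genericPoint Y) : Flat y := by
  refine Flat.of_stalkMap y fun t => ?_
  have hf : IsField (Y.presheaf.stalk (y.base t)) := by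
    rw [h t]
    exact Field.toIsField Y.functionField
  letI := hf.toField
  letI := (y.stalkMap t).hom.toAlgebra
  exact Module.Flat.of_free

theorem range_eq_univ [IsIntegral Z] [IsDominant j] [IsIntegral Y] [Nonempty X] {K : Type u} [Field K]
    (y : Spec (CommRingCat.of K) ⟶ Y) [IsProper (pullback.snd (j ≫ p) y)]
    (h : ∀ t, y.base t = genericPoint Y) :
    (pullback.fst p y).base ⁻¹' Set.range j.base = Set.univ := by
  haveI := flat_of_generic y h
  haveI : Flat (pullback.fst p y) := MorphismProperty.pullback_fst p y ‹_›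
  have hξ : genericPoint Z ∈ Set.range j.base :=
    (genericPoint_spec Z).mem_open_set_iff j.isOpenEmbedding.isOpen_range |>.2
      (by simpa using Set.range_nonempty j.base)
  refine Set.eq_univ_of_forall fun z => ?_
  obtain ⟨w, hw, hwe⟩ := Flat.generalizingMap (pullback.fst p y)
    ((genericPoint_spec Z).specializes (Set.mem_univ ((pullback.fst p y).base z)))
  exact hw.mem_closed (isClopen_preimage j p y).isClosed (show _ ∈ Set.range j.base from hwe ▸ hξ)

theorem connectedSpace_generic [IsIntegral Z] [IsDominant j] [IsIntegral Y] [Nonempty X] {K : Type u}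
    [Field K] (y : Spec (CommRingCat.of K) ⟶ Y) [IsProper (pullback.snd (j ≫ p) y)]
    [ConnectedSpace ↥(pullback (j ≫ p) y)]
    (h : ∀ t, y.base t = genericPoint Y) : ConnectedSpace ↥(pullback p y) := by
  let m : pullback (j ≫ p) y ⟶ pullback p y :=
    pullback.lift (pullback.fst (j ≫ p) y ≫ j) (pullback.snd (j ≫ p) y)
      (by rw [Category.assoc, pullback.condition])
  have hsq : IsPullback (pullback.fst (j ≫ p) y) m j (pullback.fst p y) := by
    refine IsPullback.of_bot ?_ (pullback.lift_fst _ _ _).symm (IsPullback.of_hasPullback p y)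
    rw [pullback.lift_snd]
    exact IsPullback.of_hasPullback (j ≫ p) y
  have hs : Function.Surjective m.base := fun z => by
    obtain ⟨x, hx⟩ : (pullback.fst p y).base z ∈ Set.range j.base :=
      (range_eq_univ j p y h).ge (Set.mem_univ z)
    obtain ⟨w, -, hw⟩ := Scheme.exists_preimage_of_isPullback hsq x z hx
    exact ⟨w, hw⟩
  exact hs.connectedSpace m.continuous

/-- The generic fibre of the compactification is geometrically connected. -/
theorem gc_generic [IsIntegral Z] [IsDominant j] [IsIntegral Y] [Nonempty X]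
    (hfib : ∀ (Ω : Type u) [Field Ω] [IsAlgClosed Ω] (y : Spec (CommRingCat.of Ω) ⟶ Y),
      IsProper (pullback.snd (j ≫ p) y) ∧ ConnectedSpace ↥(pullback (j ≫ p) y)) :
    GeometricallyConnected (p.fiberToSpecResidueField (genericPoint Y)) := by
  let k := Y.residueField (genericPoint Y)
  let g : Spec (CommRingCat.of (AlgebraicClosure k)) ⟶ Spec k :=
    Spec.map (CommRingCat.ofHom (algebraMap k (AlgebraicClosure k)))
  let y : Spec (CommRingCat.of (AlgebraicClosure k)) ⟶ Y :=
    g ≫ Y.fromSpecResidueField (genericPoint Y)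
  obtain ⟨hp, hc⟩ := hfib (AlgebraicClosure k) y
  haveI := hp
  haveI := hc
  haveI : ConnectedSpace ↥(pullback p y) := connectedSpace_generic j p y fun t =>
    Y.fromSpecResidueField_apply _ (g.base t)
  haveI : ConnectedSpace ↥(pullback (p.fiberToSpecResidueField (genericPoint Y)) g) :=
    (Scheme.homeoOfIso (pullbackLeftPullbackSndIso p (Y.fromSpecResidueField (genericPoint Y)) g)).connectedSpace_iff.mpr
      (show ConnectedSpace ↥(pullback p y) from inferInstance)
  haveI := SweepSix.GeomConn.gc_of_isAlgClosed (k := AlgebraicClosure k)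
    (pullback.snd (p.fiberToSpecResidueField (genericPoint Y)) g)
  exact SweepSix.GeomConn.gc_of_bc (k := k) (p.fiberToSpecResidueField (genericPoint Y)) (AlgebraicClosure k)

theorem surjective_of_fibres [IsIntegral Z] [IsDominant j] [IsIntegral Y] [Nonempty X]
    (hS : ∀ s : Y, CAlg2.IsGeomUnibranch (Y.presheaf.stalk s))
    (hfib : ∀ (Ω : Type u) [Field Ω] [IsAlgClosed Ω] (y : Spec (CommRingCat.of Ω) ⟶ Y),
      IsProper (pullback.snd (j ≫ p) y) ∧ ConnectedSpace ↥(pullback (j ≫ p) y)) :
    Function.Surjective j.base := by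
  have hlift : ∀ s : Y, ∃ x : X, (j ≫ p).base x = s := fun s => by
    let k := Y.residueField s
    let y : Spec (CommRingCat.of (AlgebraicClosure k)) ⟶ Y :=
      Spec.map (CommRingCat.ofHom (algebraMap k (AlgebraicClosure k))) ≫ Y.fromSpecResidueField s
    obtain ⟨-, hc⟩ := hfib (AlgebraicClosure k) y
    obtain ⟨w⟩ := hc.toNonempty
    refine ⟨(pullback.fst (j ≫ p) y).base w, ?_⟩
    rw [← Scheme.Hom.comp_apply, pullback.condition, Scheme.Hom.comp_apply]
    exact Y.fromSpecResidueField_apply s _
  haveI : IsDominant p := ⟨Function.Surjective.denseRange fun s => by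
    obtain ⟨x, hx⟩ := hlift s
    exact ⟨j.base x, hx⟩⟩
  haveI : GeometricallyConnected p := Groth.Agent.S7803.result p hS (gc_generic j p hfib)
  intro z
  let k := Y.residueField (p.base z)
  let g : Spec (CommRingCat.of (AlgebraicClosure k)) ⟶ Spec k :=
    Spec.map (CommRingCat.ofHom (algebraMap k (AlgebraicClosure k)))
  let y : Spec (CommRingCat.of (AlgebraicClosure k)) ⟶ Y := g ≫ Y.fromSpecResidueField (p.base z)
  obtain ⟨hp, hc⟩ := hfib (AlgebraicClosure k) y
  haveI := hp
  haveI : ConnectedSpace ↥(pullback p y) :=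
    GeometricallyConnected.geometrically_connectedSpace _ _ _ (.of_hasPullback _ _)
  obtain ⟨w⟩ := hc.toNonempty
  have hne : ((pullback.fst p y).base ⁻¹' Set.range j.base).Nonempty := by
    refine ⟨(pullback.lift (pullback.fst (j ≫ p) y ≫ j) (pullback.snd (j ≫ p) y)
      (by rw [Category.assoc, pullback.condition]) : pullback (j ≫ p) y ⟶ pullback p y).base w,
      (pullback.fst (j ≫ p) y).base w, ?_⟩
    rw [← Scheme.Hom.comp_apply, ← Scheme.Hom.comp_apply, pullback.lift_fst]
  have hu := (isClopen_preimage j p y).eq_univ hne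
  obtain ⟨t, ht, -⟩ := Scheme.Pullback.exists_preimage_pullback (f := p) (g := y) z
    (Classical.arbitrary ↥(Spec (CommRingCat.of (AlgebraicClosure k))))
    (by rw [Scheme.Hom.comp_apply]; exact (Y.fromSpecResidueField_apply _ _).symm)
  have := hu.ge (Set.mem_univ t)
  rw [Set.mem_preimage, ht] at this
  exact this

theorem isProper_of_compactification [IsIntegral Z] [IsDominant j] [IsIntegral Y] [Nonempty X]
    (hY : ∀ s : Y, IsDomain (Y.presheaf.stalk s) ∧ IsIntegrallyClosed (Y.presheaf.stalk s))
    (hfib : ∀ (Ω : Type u) [Field Ω] [IsAlgClosed Ω] (y : Spec (CommRingCat.of Ω) ⟶ Y),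
      IsProper (pullback.snd (j ≫ p) y) ∧ ConnectedSpace ↥(pullback (j ≫ p) y)) :
    IsProper (j ≫ p) := by
  haveI : Surjective j := ⟨surjective_of_fibres j p (fun s => by
    haveI := (hY s).1
    haveI := (hY s).2
    exact BranchLib.isGeomUnibranch_of_isIntegrallyClosed _) hfib⟩
  haveI : IsIso j := (isIso_iff_isOpenImmersion_and_epi_base j).2
    ⟨inferInstance, (TopCat.epi_iff_surjective _).2 j.surjective⟩
  infer_instance

end PropFibLib
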